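import Cfsg.Agent.Lib.Comp.Fi24.Base

set_option maxRecDepth 100000
set_option Elab.async false

namespace Cfsg.Lib.Comp.Fi24

universe u

noncomputable def E_R : List (List ℕ × ℕ) := (apd [([1],1),
 ([2],1),
 ([3],1),
 ([4],1),
 ([5],1),
 ([6],1),
 ([7],1),
 ([8],1),
 ([9],1),
 ([10],1),
 ([11],1),
 ([12],1),
 ([1,2],2),
 ([1,3],1),
 ([1,4],1),
 ([1,5],1),
 ([1,6],1),
 ([1,7],1),
 ([1,8],1),
 ([1,9],1),
 ([1,10],1),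
 ([1,11],2),
 ([1,12],1),
 ([2,3],2),
 ([2,4],1),
 ([2,5],1),
 ([2,6],1),
 ([2,7],1),
 ([2,8],1),
 ([2,9],1),
 ([2,10],1),
 ([2,11],1),
 ([2,12],1),
 ([3,4],2),
 ([3,5],1),
 ([3,6],1),
 ([3,7],1),
 ([3,8],1),
 ([3,9],1),
 ([3,10],1)]
 [([3,11],1),
 ([3,12],1),
 ([4,5],2),
 ([4,6],1),
 ([4,7],1),
 ([4,8],2),
 ([4,9],1),
 ([4,10],1),
 ([4,11],1),
 ([4,12],1),
 ([5,6],2),
 ([5,7],1),
 ([5,8],1),
 ([5,9],1),
 ([5,10],1),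
 ([5,11],1),
 ([5,12],1),
 ([6,7],2),
 ([6,8],1),
 ([6,9],1),
 ([6,10],1),
 ([6,11],1),
 ([6,12],1),
 ([7,8],1),
 ([7,9],1),
 ([7,10],2),
 ([7,11],1),
 ([7,12],1),
 ([8,9],2),
 ([8,10],1),
 ([8,11],1),
 ([8,12],1),
 ([9,10],1),
 ([9,11],1),
 ([9,12],1),
 ([10,11],1),
 ([10,12],1),
 ([11,12],2),
 ((apd [12,8,6,5,4,3,2,1,8,6,5,4,3,2,1,8,6,5,4,3,2,1,8,6,5,4,3,2,1,8,6,5,4,3,2,1,8,6,5,4,3,2,1,8,6,5,4,3,2,1,8,6,5,4,3,2,1,8,6,5]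
 [4,3,2,1]),0),
 ([4,3,2,1,11,12,4,5,6,7,10,4,8,9],16)])

noncomputable def E_n_1 : Net :=
 (Net.cons 1 (nat_lit 0x1)
 Net.nil)

noncomputable def E_n_2 : Net :=
 (Net.cons 1 (nat_lit 0x1)
 Net.nil)

noncomputable def E_n_3 : Net :=
 (Net.cons 1 (nat_lit 0x1)
 Net.nil)

noncomputable def E_n_4 : Net :=
 (Net.cons 1 (nat_lit 0x1)
 Net.nil)

noncomputable def E_n_5 : Net :=
 (Net.cons 1 (nat_lit 0x1)
 Net.nil)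

noncomputable def E_n_6 : Net :=
 (Net.cons 1 (nat_lit 0x1)
 Net.nil)

noncomputable def E_n_7 : Net :=
 (Net.cons 1 (nat_lit 0x1)
 Net.nil)

noncomputable def E_n_8 : Net :=
 (Net.cons 1 (nat_lit 0x1)
 Net.nil)

noncomputable def E_n_9 : Net :=
 (Net.cons 1 (nat_lit 0x1)
 Net.nil)

noncomputable def E_n_10 : Net :=
 (Net.cons 1 (nat_lit 0x1)
 Net.nil)

noncomputable def E_n_11 : Net :=
 (Net.cons 1 (nat_lit 0x1)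
 Net.nil)

noncomputable def E_n_12 : Net :=
 (Net.cons 1 (nat_lit 0x1)
 Net.nil)

noncomputable def E_n : List Net := [Net.nil,
 E_n_1,
 E_n_2,
 E_n_3,
 E_n_4,
 E_n_5,
 E_n_6,
 E_n_7,
 E_n_8,
 E_n_9,
 E_n_10,
 E_n_11,
 E_n_12]

theorem E_n_ok : NetsOK 2 E_n := netsOK_of (by decide +kernel)

theorem E_n_rel : Rels (gp E_n) E_R := rels_of_relsB (k := 1) E_n_ok (by norm_num) (by decide +kernel)

theorem E_fin : finB 2 E_n [1,2,3,4,5,6,7,8,9,10,11,12] 2 (runH 2 E_n (fun x p => ptInv (nth Net.nil E_n x) p) iv E_R [] [[1,12],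
 [2,12],
 [3,12],
 [4,12],
 [5,12],
 [6,12],
 [7,12],
 [8,12],
 [9,12],
 [10,12],
 [11,12],
 [12,12]] 0 []
  [0,1,5,9,13,17,21,25,29,33,37,41,45,4,8,12,16,20,24,28,32,36,40]
  (defsH 2 E_n (ones 26) [1] (Nat.shiftLeft 1 0) 0)) = true := by decide +kernel

theorem E_idx : Idx.{u} iv (E_R ++ []) [[1,12],
 [2,12],
 [3,12],
 [4,12],
 [5,12],
 [6,12],
 [7,12],
 [8,12],
 [9,12],
 [10,12],
 [11,12],
 [12,12]] [1,2,3,4,5,6,7,8,9,10,11,12] 2 :=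
  Reach.idx E_n_ok (reach_runH E_n_ok (fun x p _ => ptInv_gp E_n_ok x p) E_n_rel (reach_defsH E_n_ok _ _ _ _ _ _) _ _) E_fin (by norm_num)

end Cfsg.Lib.Comp.Fi24
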