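import Cfsg.Agent.Lib.Fi.C24b
import Cfsg.Agent.Lib.Fi.C24q
import Cfsg.Agent.Lib.Fi.Z24a
import Cfsg.Agent.Lib.Comp.Out2
import Cfsg.Agent.Lib.Comp.Fi22.Out
import Cfsg.Agent.Lib.Invol.Sylow2

/-! Automorphisms of `Fi₂₄'`. -/

namespace Cfsg.Lib.Comp.Fi24

open Cfsg.Lib.Fi Subgroup MulAut

variable {G : Type*} [Group G]

theorem restrict {L H K : Subgroup G} (h : H ≤ L) (k : K ≤ L) (α : MulAut L)
    (hα : ∀ x : L, (α x : G) ∈ K ↔ (x : G) ∈ H) : ∃ β : H ≃* K, ∀ x : H, (β x : G) = α ⟨x, h x.2⟩ :=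
  ⟨{ toFun x := ⟨α ⟨x, h x.2⟩, (hα _).2 x.2⟩
     invFun x := ⟨α.symm ⟨x, k x.2⟩, (hα _).1 (by simp)⟩
     left_inv x := by simp
     right_inv x := by simp
     map_mul' x y := Subtype.ext (congrArg Subtype.val (map_mul α ⟨x, h x.2⟩ ⟨y, h y.2⟩) :) }, fun _ => rfl⟩

theorem restrict_cen {L : Subgroup G} (α : MulAut L) (z : L) :
    ∃ β : ↥(L ⊓ centralizer {(z : G)}) ≃* ↥(L ⊓ centralizer {(α z : G)}), ∀ x, (β x : G) = α ⟨x, x.2.1⟩ :=
  restrict inf_le_left inf_le_left α fun x => by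
    simp only [mem_inf, SetLike.coe_mem, true_and, mem_centralizer_singleton_iff]
    rw [← Subgroup.coe_mul, ← Subgroup.coe_mul, ← Subgroup.coe_mul, ← Subgroup.coe_mul, Subtype.val_inj, Subtype.val_inj, ← map_mul, ← map_mul,
      α.injective.eq_iff]

/-- `α` fixes the centraliser of `T`. -/
def Fxs (α : MulAut (commutator G)) (T : Set G) : Prop := ∀ k : commutator G, (k : G) ∈ centralizer T → α k = k

theorem Fxs.mono {α : MulAut (commutator G)} {T U : Set G} (h : Fxs α T) (hT : T ⊆ U) : Fxs α U :=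
  fun k hk => h k (centralizer_le hT hk)

theorem Fxs.mul {α : MulAut (commutator G)} {T : Set G} (h : Fxs α T) {w g : G} (hw : w ∈ T) (hg : g ∈ zpowers w) :
    Fxs (conjNormal g * α) T := fun k hk => Subtype.ext (by
  rw [MulAut.mul_apply, h k hk, conjNormal_apply, mul_inv_eq_iff_eq_mul]
  obtain ⟨i, rfl⟩ := hg
  exact (Commute.zpow_left (hk w hw) i).eq)

variable [Finite G] (S : S24 G)

theorem stepA {x y : G} (h₁ : x ∈ S.M.D) (h₂ : y ∈ S.M.D) (hne : x ≠ y) (hc : Commute x y) {α : MulAut (commutator G)}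
    (hα : α ⟨_, S.mul_mem_comm h₁ h₂⟩ = ⟨_, S.mul_mem_comm h₁ h₂⟩) :
    ∃ n ∈ commutator G, ∀ k : commutator G, (k : G) ∈ centralizer {x, y} → (α k : G) = n * k * n⁻¹ := by
  obtain ⟨T, e, rfl, rfl⟩ := S.pt2 h₁ h₂ hne hc
  have hX := (T.t24.2 _ (T.M.v_mem_D B24.Ua)).2 _ T.abc.1
  have ha := T.a_mem (T := {T.a, T.b}) (by simp [hc.symm]) (by simp)
  obtain ⟨p1, -, ⟨p3⟩⟩ := T.even_part (fun x hx => hx.1.1) hX.1.tr hX.1.ne T.cl_ab.1 (T.M.v_mem_D _) ha
  obtain ⟨q⟩ := quot22 hX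
  have q' := (p3.trans (quot_center_congr T.cl_ab.1.symm)).trans q
  have hle : centralizer {T.a, T.b} ≤ centralizer {T.a * T.b} := fun g hg =>
    mem_centralizer_singleton_iff.2 (Commute.mul_left (hg _ (by simp)) (hg _ (by simp))).symm
  have c1 := T.card_inf_comm (T.M.v_mem_D B24.Ua) ha.1
  have c2 := T.card_inf_comm (T.M.v_mem_D B24.Ua) (hle ha.1)
  rw [T.card_K2] at c1
  rw [T.card_ab] at c2
  have l := inf_le_inf_left (commutator G) hle
  obtain ⟨β, hβ⟩ := restrict_cen α ⟨_, S.mul_mem_comm h₁ h₂⟩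
  generalize_proofs at β hβ
  let β' := β.trans (MulEquiv.subgroupCongr (by rw [hα]) : _ ≃* ↥(commutator G ⊓ centralizer {T.a * T.b}))
  let ε := subgroupOfEquivOfLe l
  have p2 : Group.IsPerfect _ := ⟨by
    rw [← ε.symm.range_eq_top, MonoidHom.range_eq_map, ← p1.1, map_commutator_eq, ε.symm.range_eq_top]; rfl⟩
  obtain ⟨f, -⟩ := Fi22.equiv
  have := Fi22.main.1
  obtain ⟨n, hn⟩ := aut_fix (eq_of_index_two le_rfl l (fun e => by rw [e] at c1; omega) (by omega)).2 p2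
    (τ := (q'.toMonoidHom.comp (QuotientGroup.mk' _)).comp ε.toMonoidHom)
    ⟨(q'.surjective.comp (QuotientGroup.mk'_surjective _)).comp ε.surjective, fun k hk => mem_center_iff.2 fun g =>
      ε.injective (by
        rw [map_mul, map_mul]
        exact mem_center_iff.1 ((QuotientGroup.eq_one_iff _).1 (q'.map_eq_one_iff.1 hk)) _), p2.1 ▸ le_top⟩
    (center_eq_bot (by rw [Fi22.main.2]; norm_num)) (Fi22.out_eq f) (fun g hg => ⟨g.2.1, by
      rcases T.perm2 (T.M.v_mem_D _) T.abc.1 (mem_centralizer_singleton_iff.1 g.2.2) with ⟨a, b⟩ | ⟨a, b⟩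
      · rintro _ (rfl | rfl)
        exacts [(mul_inv_eq_iff_eq_mul.1 a).symm, (mul_inv_eq_iff_eq_mul.1 b).symm]
      · obtain ⟨x, hx⟩ := hX.1.ne
        have m : T.a * x ∈ commutator G ⊓ centralizer {T.a, T.b} :=
          ⟨T.mul_mem_comm (T.M.v_mem_D _) hx.1.1, mul_mem ha.1 (T.cl_ab.1.le (subset_closure hx))⟩
        have : (g : G) * (T.a * x) = T.a * x * g := congrArg Subtype.val (hg ⟨_, l m⟩ m)
        have h1 := Md.Fac.conj (T.fac_pair (T.M.v_mem_D _) hx.1) g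
        rw [this, mul_inv_cancel_right] at h1
        have := (T.un2 h1 (T.fac_pair (T.M.v_mem_D _) hx.1) _).1 List.mem_cons_self
        simp only [MulAut.conj_apply, a, List.mem_cons, List.not_mem_nil, or_false] at this
        exact (this.elim hne.symm hx.2.1.symm).elim⟩) β'
  exact ⟨n, n.2.1, fun k hk => (hβ ⟨k, l ⟨k.2, hk⟩⟩).symm.trans (congrArg Subtype.val (hn ⟨k, l ⟨k.2, hk⟩⟩ ⟨k.2, hk⟩))⟩

theorem cen3 {x y z : G} (h₁ : x ∈ S.M.D) (h₂ : y ∈ S.M.D) (h₃ : z ∈ S.M.D) (h12 : x ≠ y) (h13 : x ≠ z) (h23 : y ≠ z)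
    (c12 : Commute x y) (c13 : Commute x z) (c23 : Commute y z) {g : G}
    (hg : g ∈ centralizer ((commutator G ⊓ centralizer {x, y, z} : Subgroup G) : Set G)) : g ∈ closure {x, y, z} := by
  have a1 := S.perm2 (g := g) h₁ ⟨h₂, h12.symm, c12⟩ (Eq.symm (hg _ ⟨S.mul_mem_comm h₁ h₂, by
    rintro _ (rfl | rfl | rfl)
    exacts [(Commute.refl _).mul_right c12, c12.symm.mul_right (Commute.refl _), c13.symm.mul_right c23.symm]⟩))
  have a2 := S.perm2 (g := g) h₁ ⟨h₃, h13.symm, c13⟩ (Eq.symm (hg _ ⟨S.mul_mem_comm h₁ h₃, by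
    rintro _ (rfl | rfl | rfl)
    exacts [(Commute.refl _).mul_right c13, c12.symm.mul_right c23, c13.symm.mul_right (Commute.refl _)]⟩))
  obtain ⟨a, b⟩ := a1.resolve_right fun a => a2.elim (fun b => h12 (b.1.symm.trans a.1)) fun b => h23 (a.1.symm.trans b.1)
  obtain ⟨-, c⟩ := a2.resolve_right fun c => h13 (a.symm.trans c.1)
  have h : g ∈ centralizer {x, y, z} := by
    rintro _ (rfl | rfl | rfl)
    exacts [(mul_inv_eq_iff_eq_mul.1 a).symm, (mul_inv_eq_iff_eq_mul.1 b).symm, (mul_inv_eq_iff_eq_mul.1 c).symm]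
  obtain ⟨T, e, rfl, rfl, rfl⟩ := S.pt3 h₁ h₂ h₃ h12 h13 h23 c12 c13 c23
  have hX := ((T.t24.2 _ (T.M.v_mem_D B24.Ua)).2 _ T.abc.1).2 _ T.abc.2
  obtain ⟨t, ht⟩ := hX.cm
  have ha := T.a_mem (T := {T.a, T.b, T.c}) (by simp [c12.symm, c13.symm]) (by simp)
  exact S24.cent_K T.cl_abc ⟨h, (T.even_part (fun x hx => hx.1.1.1) (fun _ a _ b => ht.tr a b) hX.vw.ne T.cl_abc.1
    (T.M.v_mem_D _) ha).2.1 ⟨h, hg⟩⟩

theorem stepB {x y z : G} (h₁ : x ∈ S.M.D) (h₂ : y ∈ S.M.D) (h₃ : z ∈ S.M.D) (h12 : x ≠ y) (h13 : x ≠ z) (h23 : y ≠ z)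
    (c12 : Commute x y) (c13 : Commute x z) (c23 : Commute y z) {α : MulAut (commutator G)} (hα : Fxs α {x, y, z}) :
    ∃ g ∈ zpowers z, Fxs (conjNormal g * α) {x, y} := by
  obtain ⟨n, -, hn⟩ := stepA S h₁ h₂ h12 c12 (hα _ (by
    rintro _ (rfl | rfl | rfl)
    exacts [(Commute.refl _).mul_right c12, c12.symm.mul_right (Commute.refl _), c13.symm.mul_right c23.symm]))
  have m := cen3 S h₁ h₂ h₃ h12 h13 h23 c12 c13 c23 (g := n) fun k hk => by
    have := hn ⟨k, hk.1⟩ (centralizer_le (by simp [Set.subset_def]) hk.2)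
    rw [hα _ hk.2] at this
    exact eq_mul_inv_iff_mul_eq.1 this
  have z1 : zpowers z ≤ centralizer {x, y} := zpowers_le.2 (by rintro _ (rfl | rfl) <;> assumption)
  obtain ⟨g, h1, h2⟩ : ∃ g ∈ zpowers z, ∀ k ∈ centralizer {x, y}, n * k * n⁻¹ = g * k * g⁻¹ := by
    clear hn
    induction m using closure_induction with
    | mem u hu =>
      rcases hu with rfl | rfl | rfl
      · exact ⟨1, one_mem _, fun k hk => by rw [hk u (by simp)]; group⟩
      · exact ⟨1, one_mem _, fun k hk => by rw [hk u (by simp)]; group⟩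
      · exact ⟨u, mem_zpowers _, fun _ _ => rfl⟩
    | one => exact ⟨1, one_mem _, fun _ _ => rfl⟩
    | mul u v _ _ a b =>
      obtain ⟨g, a1, a2⟩ := a
      obtain ⟨h, b1, b2⟩ := b
      refine ⟨g * h, mul_mem a1 b1, fun k hk => ?_⟩
      have := a2 _ (mul_mem (mul_mem (z1 b1) hk) (inv_mem (z1 b1)))
      rw [← b2 k hk] at this
      rw [mul_inv_rev, mul_inv_rev, mul_assoc g h, mul_assoc g, ← mul_assoc (h * k), ← b2 k hk, ← mul_assoc g, ← this]
      group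
    | inv u _ a =>
      obtain ⟨g, a1, a2⟩ := a
      refine ⟨g⁻¹, inv_mem a1, fun k hk => ?_⟩
      have := a2 _ (mul_mem (mul_mem (inv_mem (z1 a1)) hk) (z1 a1))
      rw [show g * (g⁻¹ * k * g) * g⁻¹ = k by group] at this
      rw [inv_inv, inv_inv]
      conv_lhs => rw [← this]
      group
  exact ⟨g⁻¹, inv_mem h1, fun k hk => Subtype.ext (by
    rw [MulAut.mul_apply, conjNormal_apply, hn k hk, h2 _ hk]; group)⟩

theorem step0 {x y : G} (h₁ : x ∈ S.M.D) (h₂ : y ∈ S.M.D) (hne : x ≠ y) (hc : Commute x y) (α : MulAut (commutator G)) :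
    ∃ g : G, Fxs (conjNormal g * α) {x, y} := by
  obtain ⟨T, e, rfl, rfl⟩ := S.pt2 h₁ h₂ hne hc
  obtain ⟨g, hg⟩ : ∃ g : G, g * α ⟨_, S.mul_mem_comm h₁ h₂⟩ * g⁻¹ = T.a * T.b := by
    have o : orderOf (α ⟨_, S.mul_mem_comm h₁ h₂⟩ : G) = 2 := by
      rw [orderOf_coe, α.orderOf_eq, ← orderOf_coe, ← T.M.ord Nat.prime_two B24.j2_ord, T.j2_eq]
    have n : ∀ {t}, IsConj (α ⟨_, S.mul_mem_comm h₁ h₂⟩ : G) t → t ∈ commutator G := fun h => by
      obtain ⟨g, rfl⟩ := isConj_iff.1 h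
      exact Normal.conj_mem inferInstance _ (SetLike.coe_mem _) g
    rcases T.invol o with h | h | h | h
    · exact (T.not_mem_comm (T.M.v_mem_D _) (n h)).elim
    · exact isConj_iff.1 (h.trans (by rw [T.j2_eq]))
    · exact (T.not_mem_comm (T.M.v_mem_D _) ((mul_mem_cancel_left (S.mul_mem_comm h₁ h₂)).1 (T.j3_eq ▸ n h))).elim
    · obtain ⟨β, -⟩ := restrict_cen α ⟨_, S.mul_mem_comm h₁ h₂⟩
      have c2 := T.card_inf_comm (K := centralizer {T.a * T.b}) (T.M.v_mem_D B24.Ua)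
        (mem_centralizer_singleton_iff.2 ((Commute.refl _).mul_right hc))
      have c3 := card_le_of_le (inf_le_right (a := commutator G) (b := centralizer {(α ⟨_, S.mul_mem_comm h₁ h₂⟩ : G)}))
      rw [← Nat.card_congr β.toEquiv, Cfsg.Lib.Invol.card_centralizer_of_isConj h, (Z24.ke T).2] at c3
      rw [T.card_ab] at c2
      exact absurd c3 (by dsimp only; omega)
  obtain ⟨n, -, hn⟩ := stepA S h₁ h₂ hne hc (α := conjNormal g * α) (Subtype.ext hg)
  exact ⟨n⁻¹ * g, fun k hk => Subtype.ext (by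
    rw [map_mul, mul_assoc, MulAut.mul_apply, conjNormal_apply, hn k hk]; group)⟩

theorem aut_eq (α : MulAut Spor.Fi24') : ∃ g : Spor.Fi24, α = conjNormal g := by
  obtain ⟨S, e⟩ := s24 Known2.fi24_t24.1.grp Known2.fi24_t24.1.prim Known2.fi24_type
  obtain ⟨f, -, -, hf⟩ := faith
  have r : ∀ x y k, ([x], 1) ∈ R ∧ ([y], 1) ∈ R ∧ ([x, y], k) ∈ R →
      γ x * γ x = 1 ∧ γ y * γ y = 1 ∧ (γ x * γ y) ^ (k + 1) = 1 := fun x y k h => by
    simpa [ev, _root_.sq] using And.intro (ok.rels hall _ h.1) (And.intro (ok.rels hall _ h.2.1) (ok.rels hall _ h.2.2))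
  have br : ∀ x y, ([x], 1) ∈ R ∧ ([y], 1) ∈ R ∧ ([x, y], 2) ∈ R → IsConj (γ x) (γ y) := fun x y h => by
    obtain ⟨a1, a2, a3⟩ := r x y 2 h
    exact isConj_iff.2 ⟨γ x * γ y, by rw [Known2.braid_of_cube a1 a2 a3, mul_inv_eq_iff_eq_mul, mul_assoc]⟩
  have cm : ∀ x y, x = y ∨ ([x], 1) ∈ R ∧ ([y], 1) ∈ R ∧ (([x, y], 1) ∈ R ∨ ([y, x], 1) ∈ R) → Commute (γ x) (γ y) := by
    have k : ∀ x y, ([x], 1) ∈ R ∧ ([y], 1) ∈ R ∧ ([x, y], 1) ∈ R → Commute (γ x) (γ y) := fun x y h => by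
      obtain ⟨a1, a2, a3⟩ := r x y 1 h
      rw [Commute, SemiconjBy, ← inv_eq_of_mul_eq_one_right ((_root_.sq _).symm.trans a3), mul_inv_rev,
        inv_eq_of_mul_eq_one_right a1, inv_eq_of_mul_eq_one_right a2]
    rintro x y (rfl | ⟨a, b, c | c⟩)
    exacts [.refl _, k x y ⟨a, b, c⟩, (k y x ⟨b, a, c⟩).symm]
  have m4 := ((((br 11 12 (by decide +kernel)).symm.trans (br 1 11 (by decide +kernel)).symm).trans
    (br 1 2 (by decide +kernel))).trans (br 2 3 (by decide +kernel))).trans (br 3 4 (by decide +kernel))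
  have dl : γ 12 ∈ S.M.D := e ▸ mem_conjugatesOf_self
  have dj : γ 10 ∈ S.M.D := e ▸ (((m4.trans (br 4 5 (by decide +kernel))).trans (br 5 6 (by decide +kernel))).trans
    (br 6 7 (by decide +kernel))).trans (br 7 10 (by decide +kernel))
  have di : γ 9 ∈ S.M.D := e ▸ (m4.trans (br 4 8 (by decide +kernel))).trans (br 8 9 (by decide +kernel))
  have n : ∀ x y p, neP tb L [x] [y] p = true → γ x ≠ γ y := fun x y p h => by simpa [ev] using ne_of_neP hf tb_ok h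
  have n1 := n 12 10 31672 (by decide +kernel)
  have n2 := n 12 9 31672 (by decide +kernel)
  have n3 := n 10 9 1 (by decide +kernel)
  have c1 := cm 12 10 (by decide +kernel)
  have c2 := cm 12 9 (by decide +kernel)
  have c3 := cm 10 9 (by decide +kernel)
  obtain ⟨g1, a1⟩ := step0 S dl dj n1 c1 α
  obtain ⟨g2, b1, b2⟩ := stepB S dl di dj n2 n1 n3.symm c2 c1 c3.symm (a1.mono (by simp [Set.subset_def]))
  replace a1 := a1.mul (by simp) b1
  obtain ⟨g3, d1, d2⟩ := stepB S dj di dl n3 n1.symm n2.symm c3 c1.symm c2.symm (a1.mono (by simp [Set.subset_def]))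
  replace a1 := a1.mul (by simp) d1
  replace b2 := b2.mul (by simp) d1
  generalize hβ : conjNormal g3 * (conjNormal g2 * (conjNormal g1 * α)) = β at a1 b2 d2
  have : commutator Spor.Fi24 ≤ (β.toMonoidHom.eqLocus (MonoidHom.id _)).map (Subgroup.subtype _) :=
    comm_eq.1.trans_le (clw_le.2 fun w hw => by
      have m := comm_eq.1.ge (mem_clw hw)
      obtain ⟨x, hx, rfl⟩ := List.mem_map.1 hw
      have k : ∀ y z, Fxs β {γ y, γ z} → (∀ u ∈ [y, z], ∀ v ∈ [x, 12],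
          u = v ∨ ([u], 1) ∈ R ∧ ([v], 1) ∈ R ∧ (([u, v], 1) ∈ R ∨ ([v, u], 1) ∈ R)) → β ⟨_, m⟩ = ⟨_, m⟩ :=
        fun y z h k => h _ (ev_mem fun v hv => by
          rintro _ (rfl | rfl)
          exacts [cm _ _ (k _ (by simp) v hv), cm _ _ (k _ (by simp) v hv)])
      refine ⟨⟨_, m⟩, ?_, rfl⟩
      by_cases h7 : x = 7
      · exact k _ _ b2 (by subst h7; decide +kernel)
      by_cases h11 : x = 11
      · exact k _ _ d2 (by subst h11; decide +kernel)
      · exact k _ _ a1 (by clear m k hw; revert x; decide +kernel))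
  have : β = 1 := MulEquiv.ext fun k => by
    obtain ⟨y, h1, h2⟩ := this k.2
    exact Subtype.ext h2 ▸ h1
  exact ⟨(g3 * g2 * g1)⁻¹, by rw [map_inv, eq_inv_iff_mul_eq_one, mul_eq_one_comm, map_mul, map_mul, mul_assoc, mul_assoc, hβ, this]⟩

theorem out_eq : Nat.card (Out Spor.Fi24') = 2 := by
  have n := not_mem_comm (x := 12) (by decide)
  refine card_out_eq_two (card_out_le_of [1, γ 12] (fun α s => α = conjNormal s) (fun α => ?_)
    fun _ _ _ a b => a.trans b.symm) ⟨conjNormal (γ 12), ?_⟩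
  · obtain ⟨g, rfl⟩ := aut_eq α
    by_cases h : g ∈ commutator Spor.Fi24
    · exact ⟨⟨_, inv_mem h⟩, 1, by simp, by rw [← conjNormal_val, ← map_mul, inv_mul_cancel]⟩
    · exact ⟨⟨γ 12 * g⁻¹, (mul_mem_iff_of_index_two comm_eq.2).2 (by simp [n, h])⟩, γ 12, by simp, by
        rw [← conjNormal_val, ← map_mul, inv_mul_cancel_right]⟩
  · rintro ⟨h, e⟩
    have := simple'
    rw [← conjNormal_val, ← mul_inv_eq_one, ← map_inv, ← map_mul, ← MonoidHom.mem_ker] at e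
    by_cases k : (conjNormal : Spor.Fi24 →* MulAut Spor.Fi24').ker = ⊥
    · rw [k, mem_bot, mul_inv_eq_one] at e
      exact n (e ▸ h.2)
    · have c := center_eq_bot (Γ := Spor.Fi24') (by rw [card24']; norm_num)
      have : ⊤ ≤ center Spor.Fi24' := fun x _ => mem_center_iff.2 fun y => by
        have := DFunLike.congr_fun (comm_le _ inferInstance k x.2) y
        rw [conjNormal_val, MulAut.conj_apply, mul_inv_eq_iff_eq_mul] at this
        exact this.symm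
      exact top_ne_bot (le_bot_iff.1 (c ▸ this))

end Cfsg.Lib.Comp.Fi24
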