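import Cfsg.Agent.Lib.Comp.Fi24.Sub0
import Cfsg.Agent.Lib.Comp.Fi23.Main
import Cfsg.Agent.Lib.Comp.ThreeTr

set_option maxRecDepth 100000

namespace Cfsg.Lib.Comp.Fi24

/-- `He ≤ Fi₂₄'`. -/
theorem he_le_comm : ∃ K : Subgroup Spor.Fi24, K ≤ commutator Spor.Fi24 ∧ Nonempty (K ≃* Spor.He) := by
  obtain ⟨f, hi, -, hf⟩ := faith
  obtain ⟨e1⟩ := he_iso
  obtain ⟨e2, -⟩ := He.equiv
  refine ⟨cl (sv γ heV) He.L, cl_le.2 fun x hx => ?_, ⟨(((cl (sv γ heV) He.L).equivMapOfInjective f hi).trans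
    (MulEquiv.subgroupCongr (map_cl_of_gen fun x _ => sv_map hf he_sub x))).trans (e1.symm.trans e2.symm)⟩⟩
  have h : ∀ x ∈ He.L, subB (nth [] heV x) L = true ∧ (nth [] heV x).length % 2 = 0 := by decide +kernel
  exact (ev_mem_comm (sub_of_subB (h x hx).1)).2 (h x hx).2

/-- `Fi₂₃ ≤ C(l) ∩ Fi₂₄'`. -/
theorem fi23_sub : ∃ K : Subgroup Spor.Fi24, K ≤ commutator Spor.Fi24 ∧ K ≤ Subgroup.centralizer {γ 12} ∧
    Nonempty (K ≃* Spor.Fi23) := by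
  obtain ⟨h1, h2, h3, h4⟩ := twist_spec R2_tw (R2_cons _ γ ok.ivOK (ok.rels hall))
  obtain ⟨f, hi, -, hf⟩ := faith
  have hx : ∀ x ∈ Fi23.L, twist γ [1,2,3,4,5,6,7,8,9,10] 12 x = ev γ [x, 12] := fun x hx => by
    rw [ev_cons, ev_single]; exact if_pos hx
  obtain ⟨e1, -⟩ := embed_of_rels Fi23.simple Fi23.nets_iv Fi23.nets_rel Fi23.ord Fi23.lb h3 h4 (x := 1) (by decide)
    (by rw [hx 1 (by decide)]; exact ne_of_neP hf (tbA_pt nets_ok) (w := []) (p := 3) (by decide +kernel))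
  obtain ⟨e2, -⟩ := Fi23.equiv
  refine ⟨_, cl_le.2 fun x h => ?_, cl_le.2 fun x h => ?_, ⟨e1.symm.trans e2.symm⟩⟩
  · rw [hx x h]
    exact (ev_mem_comm (by revert x; decide)).2 (by simp)
  · rw [hx x h, ev_cons, ev_single, Subgroup.mem_centralizer_singleton_iff]
    exact (h2 x h).mul_left (Commute.refl _)

end Cfsg.Lib.Comp.Fi24
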