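import Cfsg.Agent.Lib.Comp.Fi24.Main
import Cfsg.Agent.Lib.Comp.Subst2
import Cfsg.Agent.Lib.Comp.He.Main

set_option maxRecDepth 100000
set_option Elab.async false

namespace Cfsg.Lib.Comp.Fi24

noncomputable def heV : List (List ℕ) := [[],
 [3,4,6,5,7,8,4,3,2,9,8,4,3,5,4,6,5,8,4,3,1,2,3,4,5,6,7,8,4,3,5,4,8,9,11,1,2,3,4,5,6,8,4,3],
 (apd [4,3,2,5,6,7,6,5,8,4,3,2,5,4,3,6,5,4,7,6,8,4,3,5,6,9,8,4,3,2,5,4,3,6,7,8,4,5,6,7,9,8,4,5,6,1,2,3,4,5,6,7,8,4,3,2,1,5,4,6]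
 (apd [5,9,8,10,7,6,5,4,3,2,1,8,4,3,2,5,4,9,8,4,3,5,4,6,5,7,6,8,10,7,11,1,2,3,4,5,6,7,8,4,3,2,5,4,3,6,9,8,4,3,2,1,5,4,3,2,6,8,4,9]
 [10,7,6,5,4,8])),
 (apd [2,4,5,4,6,5,7,6,5,4,8,4,3,2,5,4,3,6,5,4,7,6,5,8,4,3,2,5,4,3,8,4,5,12,9,8,4,3,2,5,4,3,8,9,1,2,3,4,5,6,7,8,4,3,2,10,7,6,5,4]
 [3,2,1,8,4,3,2,5,4,9,8,4,3,2,1,5,4,6,7,8,11,1,2,3,4,5,6,7,8,4,3,2,5,4,6,5,9,8,4,5,6,10,7,6,12,11]),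
 (apd [4,3,2,5,4,6,7,6,5,4,8,4,3,2,5,4,3,6,5,4,7,6,5,8,4,3,2,5,4,3,6,5,4,8,4,3,5,4,12,9,8,4,3,2,5,4,3,6,5,4,7,6,5,8,4,3,2,5,6,7]
 (apd [9,8,4,3,2,1,2,3,4,5,6,7,8,4,3,5,4,8,9,8,4,3,2,1,5,4,3,2,6,8,4,3,10,7,6,5,4,3,2,1,8,4,5,6,7,9,8,4,3,2,5,4,3,6,5,4,10,7,6,11]
 [1,2,3,4,5,6,7,8,4,3,5,4,6,5,8,9,8,4,3,2,5,4,3,8,4,5,6,10,7,6])),
 (apd [4,3,2,5,4,6,5,4,3,7,6,5,8,4,3,2,5,4,6,5,7,6,8,4,3,5,4,8,9,8,4,3,2,5,4,3,8,4,5,9,8,4,1,2,3,4,5,6,7,8,4,3,2,5,4,6,5,8,9,8]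
 (apd [4,3,2,1,5,4,6,5,8,4,3,2,9,8,4,3,5,10,7,6,5,4,3,2,1,8,4,3,2,5,9,8,4,3,5,4,6,7,8,11,1,2,3,4,5,6,7,8,4,3,2,5,4,3,6,9,8,4,3,2]
 [1,5,4,3,8,4,9,8,10,7,6,5,4,3,11,12])),
 (apd [3,4,3,2,6,5,4,8,4,3,2,5,4,3,6,5,8,4,12,9,8,4,3,2,5,4,3,6,5,7,6,8,4,3,2,5,4,3,6,9,8,4,5,1,2,3,4,5,6,7,8,4,5,6,9,8,4,3,2,10]
 (apd [7,6,5,4,3,2,1,8,4,3,2,5,9,8,4,3,2,1,5,4,6,8,11,1,2,3,4,5,6,7,8,4,3,2,1,5,4,3,6,9,8,4,3,2,5,4,3,6,8,9,10,7,6,5,4,3,2,8,4,5]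
 [9,11])),
 (apd [3,2,4,3,2,5,7,6,5,4,3,2,8,4,3,2,5,4,3,6,5,4,7,8,4,3,5,4,6,7,9,8,4,3,2,5,4,3,6,5,4,7,6,8,4,3,5,4,6,5,9,8,4,3,5,4,1,2,3,4]
 (apd [5,6,7,8,4,3,2,5,4,6,8,9,8,4,3,2,1,5,4,3,2,8,4,3,5,4,9,10,7,6,5,4,3,2,1,8,4,3,2,5,4,6,7,9,8,4,3,2,5,4,3,6,5,7,6,8,4,3,2,1]
 [9,8,4,11,1,2,3,4,5,6,7,8,4,3,2,1,5,4,6,5,8,9,8,4,3,2,1,5,4,3,2,6,5,4,3,8,4,5,9,8,10,7,6,5]))]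

theorem he_sub : allL heV (fun w => subB w L) = true := by decide +kernel

theorem he_iv : sivP tb B heV He.iv = true := by decide +kernel

theorem he_rel : srelP tb B heV He.R = true := by decide +kernel

theorem he_ne : ∃ p ∈ B, Nat.beq (wap tb (nth [] heV 1) p) p = false := by decide +kernel

theorem he_le : cl (sv (gp nets) heV) He.L ≤ cl (gp nets) L := cl_le.2 fun x _ => sv_mem (fun _ => mem_cl) he_sub x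

theorem he_iso : Nonempty (cl (gp He.nets) He.L ≃* cl (sv (gp nets) heV) He.L) := by
  obtain ⟨p, -, hp⟩ := he_ne
  obtain ⟨e, -⟩ := embed_of_rels He.simple He.nets_iv He.nets_rel He.ord He.lb
    (siv base tb_ok (fun _ => mem_cl) he_sub he_iv) (srels base tb_ok (fun _ => mem_cl) he_sub he_rel) (x := 1) (by decide)
    (sv_ne tb_ok hp)
  exact ⟨e⟩

end Cfsg.Lib.Comp.Fi24
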