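import Cfsg.Agent.Lib.Comp.Fi24.V00

set_option maxRecDepth 100000

namespace Cfsg.Lib.Comp.Fi24

universe u

theorem V0_n_r0_0 : eqB 28672 15 0 15 V0_n [1] 1 [] = true := by decide +kernel

theorem V0_n_r1_0 : eqB 28672 15 0 15 V0_n [2] 1 [] = true := by decide +kernel

theorem V0_n_r2_0 : eqB 28672 15 0 15 V0_n [3] 1 [] = true := by decide +kernel

theorem V0_n_r3_0 : eqB 28672 15 0 15 V0_n [4] 1 [] = true := by decide +kernel

theorem V0_n_r4_0 : eqB 28672 15 0 15 V0_n [5] 1 [] = true := by decide +kernel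

theorem V0_n_r5_0 : eqB 28672 15 0 15 V0_n [6] 1 [] = true := by decide +kernel

theorem V0_n_r6_0 : eqB 28672 15 0 15 V0_n [8] 1 [] = true := by decide +kernel

theorem V0_n_r7_0 : eqB 28672 15 0 15 V0_n [9] 1 [] = true := by decide +kernel

theorem V0_n_r8_0 : eqB 28672 15 0 15 V0_n [11] 1 [] = true := by decide +kernel

theorem V0_n_r9_0 : eqB 28672 15 0 15 V0_n [12] 1 [] = true := by decide +kernel

theorem V0_n_r10_0 : eqB 28672 15 0 15 V0_n [1,2] 2 [] = true := by decide +kernel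

theorem V0_n_r11_0 : eqB 28672 15 0 15 V0_n [1,3] 1 [] = true := by decide +kernel

theorem V0_n_r12_0 : eqB 28672 15 0 15 V0_n [1,4] 1 [] = true := by decide +kernel

theorem V0_n_r13_0 : eqB 28672 15 0 15 V0_n [1,5] 1 [] = true := by decide +kernel

theorem V0_n_r14_0 : eqB 28672 15 0 15 V0_n [1,6] 1 [] = true := by decide +kernel

theorem V0_n_r15_0 : eqB 28672 15 0 15 V0_n [1,8] 1 [] = true := by decide +kernel

theorem V0_n_r16_0 : eqB 28672 15 0 15 V0_n [1,9] 1 [] = true := by decide +kernel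

theorem V0_n_r17_0 : eqB 28672 15 0 15 V0_n [1,11] 2 [] = true := by decide +kernel

theorem V0_n_r18_0 : eqB 28672 15 0 15 V0_n [1,12] 1 [] = true := by decide +kernel

theorem V0_n_r19_0 : eqB 28672 15 0 15 V0_n [2,3] 2 [] = true := by decide +kernel

theorem V0_n_r20_0 : eqB 28672 15 0 15 V0_n [2,4] 1 [] = true := by decide +kernel

theorem V0_n_r21_0 : eqB 28672 15 0 15 V0_n [2,5] 1 [] = true := by decide +kernel

theorem V0_n_r22_0 : eqB 28672 15 0 15 V0_n [2,6] 1 [] = true := by decide +kernel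

theorem V0_n_r23_0 : eqB 28672 15 0 15 V0_n [2,8] 1 [] = true := by decide +kernel

theorem V0_n_r24_0 : eqB 28672 15 0 15 V0_n [2,9] 1 [] = true := by decide +kernel

theorem V0_n_r25_0 : eqB 28672 15 0 15 V0_n [2,11] 1 [] = true := by decide +kernel

theorem V0_n_r26_0 : eqB 28672 15 0 15 V0_n [2,12] 1 [] = true := by decide +kernel

theorem V0_n_r27_0 : eqB 28672 15 0 15 V0_n [3,4] 2 [] = true := by decide +kernel

theorem V0_n_r28_0 : eqB 28672 15 0 15 V0_n [3,5] 1 [] = true := by decide +kernel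

theorem V0_n_r29_0 : eqB 28672 15 0 15 V0_n [3,6] 1 [] = true := by decide +kernel

theorem V0_n_r30_0 : eqB 28672 15 0 15 V0_n [3,8] 1 [] = true := by decide +kernel

theorem V0_n_r31_0 : eqB 28672 15 0 15 V0_n [3,9] 1 [] = true := by decide +kernel

theorem V0_n_r32_0 : eqB 28672 15 0 15 V0_n [3,11] 1 [] = true := by decide +kernel

theorem V0_n_r33_0 : eqB 28672 15 0 15 V0_n [3,12] 1 [] = true := by decide +kernel

theorem V0_n_r34_0 : eqB 28672 15 0 15 V0_n [4,5] 2 [] = true := by decide +kernel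

theorem V0_n_r35_0 : eqB 28672 15 0 15 V0_n [4,6] 1 [] = true := by decide +kernel

theorem V0_n_r36_0 : eqB 28672 15 0 15 V0_n [4,8] 2 [] = true := by decide +kernel

theorem V0_n_r37_0 : eqB 28672 15 0 15 V0_n [4,9] 1 [] = true := by decide +kernel

theorem V0_n_r38_0 : eqB 28672 15 0 15 V0_n [4,11] 1 [] = true := by decide +kernel

theorem V0_n_r39_0 : eqB 28672 15 0 15 V0_n [4,12] 1 [] = true := by decide +kernel

theorem V0_n_r40_0 : eqB 28672 15 0 15 V0_n [5,6] 2 [] = true := by decide +kernel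

theorem V0_n_r41_0 : eqB 28672 15 0 15 V0_n [5,8] 1 [] = true := by decide +kernel

theorem V0_n_r42_0 : eqB 28672 15 0 15 V0_n [5,9] 1 [] = true := by decide +kernel

theorem V0_n_r43_0 : eqB 28672 15 0 15 V0_n [5,11] 1 [] = true := by decide +kernel

theorem V0_n_r44_0 : eqB 28672 15 0 15 V0_n [5,12] 1 [] = true := by decide +kernel

theorem V0_n_r45_0 : eqB 28672 15 0 15 V0_n [6,8] 1 [] = true := by decide +kernel

theorem V0_n_r46_0 : eqB 28672 15 0 15 V0_n [6,9] 1 [] = true := by decide +kernel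

theorem V0_n_r47_0 : eqB 28672 15 0 15 V0_n [6,11] 1 [] = true := by decide +kernel

theorem V0_n_r48_0 : eqB 28672 15 0 15 V0_n [6,12] 1 [] = true := by decide +kernel

theorem V0_n_r49_0 : eqB 28672 15 0 15 V0_n [8,9] 2 [] = true := by decide +kernel

theorem V0_n_r50_0 : eqB 28672 15 0 15 V0_n [8,11] 1 [] = true := by decide +kernel

theorem V0_n_r51_0 : eqB 28672 15 0 15 V0_n [8,12] 1 [] = true := by decide +kernel

theorem V0_n_r52_0 : eqB 28672 15 0 15 V0_n [9,11] 1 [] = true := by decide +kernel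

theorem V0_n_r53_0 : eqB 28672 15 0 15 V0_n [9,12] 1 [] = true := by decide +kernel

theorem V0_n_r54_0 : eqB 28672 15 0 15 V0_n [11,12] 2 [] = true := by decide +kernel

theorem V0_n_r55_0 : eqB 28672 15 0 15 V0_n (apd [12,8,6,5,4,3,2,1,8,6,5,4,3,2,1,8,6,5,4,3,2,1,8,6,5,4,3,2,1,8,6,5,4,3,2,1,8,6,5,4,3,2,1,8,6,5,4,3,2,1,8,6,5,4,3,2,1,8,6,5]
 [4,3,2,1]) 0 [] = true := by decide +kernel

theorem V0_n_rel : Rels (gp V0_n) V0_R := by
  unfold V0_R
  simp only [apd_eq]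
  intro r hr
  simp only [List.mem_append, List.mem_cons, List.not_mem_nil, or_false, or_assoc] at hr
  rcases hr with rfl | rfl | rfl | rfl | rfl | rfl | rfl | rfl | rfl | rfl | rfl | rfl | rfl | rfl | rfl | rfl | rfl | rfl | rfl | rfl | rfl | rfl | rfl | rfl | rfl | rfl | rfl | rfl | rfl | rfl | rfl | rfl | rfl | rfl | rfl | rfl | rfl | rfl | rfl | rfl | rfl | rfl | rfl | rfl | rfl | rfl | rfl | rfl | rfl | rfl | rfl | rfl | rfl | rfl | rfl | rfl
  · exact AgreeBits.eq (k := 15) (agree_of_eqB V0_n_ok (by norm_num) V0_n_r0_0) (by norm_num) ((fx_ev V0_n_ok.fx _).pow _) (Fx.one _)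
  · exact AgreeBits.eq (k := 15) (agree_of_eqB V0_n_ok (by norm_num) V0_n_r1_0) (by norm_num) ((fx_ev V0_n_ok.fx _).pow _) (Fx.one _)
  · exact AgreeBits.eq (k := 15) (agree_of_eqB V0_n_ok (by norm_num) V0_n_r2_0) (by norm_num) ((fx_ev V0_n_ok.fx _).pow _) (Fx.one _)
  · exact AgreeBits.eq (k := 15) (agree_of_eqB V0_n_ok (by norm_num) V0_n_r3_0) (by norm_num) ((fx_ev V0_n_ok.fx _).pow _) (Fx.one _)
  · exact AgreeBits.eq (k := 15) (agree_of_eqB V0_n_ok (by norm_num) V0_n_r4_0) (by norm_num) ((fx_ev V0_n_ok.fx _).pow _) (Fx.one _)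
  · exact AgreeBits.eq (k := 15) (agree_of_eqB V0_n_ok (by norm_num) V0_n_r5_0) (by norm_num) ((fx_ev V0_n_ok.fx _).pow _) (Fx.one _)
  · exact AgreeBits.eq (k := 15) (agree_of_eqB V0_n_ok (by norm_num) V0_n_r6_0) (by norm_num) ((fx_ev V0_n_ok.fx _).pow _) (Fx.one _)
  · exact AgreeBits.eq (k := 15) (agree_of_eqB V0_n_ok (by norm_num) V0_n_r7_0) (by norm_num) ((fx_ev V0_n_ok.fx _).pow _) (Fx.one _)
  · exact AgreeBits.eq (k := 15) (agree_of_eqB V0_n_ok (by norm_num) V0_n_r8_0) (by norm_num) ((fx_ev V0_n_ok.fx _).pow _) (Fx.one _)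
  · exact AgreeBits.eq (k := 15) (agree_of_eqB V0_n_ok (by norm_num) V0_n_r9_0) (by norm_num) ((fx_ev V0_n_ok.fx _).pow _) (Fx.one _)
  · exact AgreeBits.eq (k := 15) (agree_of_eqB V0_n_ok (by norm_num) V0_n_r10_0) (by norm_num) ((fx_ev V0_n_ok.fx _).pow _) (Fx.one _)
  · exact AgreeBits.eq (k := 15) (agree_of_eqB V0_n_ok (by norm_num) V0_n_r11_0) (by norm_num) ((fx_ev V0_n_ok.fx _).pow _) (Fx.one _)
  · exact AgreeBits.eq (k := 15) (agree_of_eqB V0_n_ok (by norm_num) V0_n_r12_0) (by norm_num) ((fx_ev V0_n_ok.fx _).pow _) (Fx.one _)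
  · exact AgreeBits.eq (k := 15) (agree_of_eqB V0_n_ok (by norm_num) V0_n_r13_0) (by norm_num) ((fx_ev V0_n_ok.fx _).pow _) (Fx.one _)
  · exact AgreeBits.eq (k := 15) (agree_of_eqB V0_n_ok (by norm_num) V0_n_r14_0) (by norm_num) ((fx_ev V0_n_ok.fx _).pow _) (Fx.one _)
  · exact AgreeBits.eq (k := 15) (agree_of_eqB V0_n_ok (by norm_num) V0_n_r15_0) (by norm_num) ((fx_ev V0_n_ok.fx _).pow _) (Fx.one _)
  · exact AgreeBits.eq (k := 15) (agree_of_eqB V0_n_ok (by norm_num) V0_n_r16_0) (by norm_num) ((fx_ev V0_n_ok.fx _).pow _) (Fx.one _)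
  · exact AgreeBits.eq (k := 15) (agree_of_eqB V0_n_ok (by norm_num) V0_n_r17_0) (by norm_num) ((fx_ev V0_n_ok.fx _).pow _) (Fx.one _)
  · exact AgreeBits.eq (k := 15) (agree_of_eqB V0_n_ok (by norm_num) V0_n_r18_0) (by norm_num) ((fx_ev V0_n_ok.fx _).pow _) (Fx.one _)
  · exact AgreeBits.eq (k := 15) (agree_of_eqB V0_n_ok (by norm_num) V0_n_r19_0) (by norm_num) ((fx_ev V0_n_ok.fx _).pow _) (Fx.one _)
  · exact AgreeBits.eq (k := 15) (agree_of_eqB V0_n_ok (by norm_num) V0_n_r20_0) (by norm_num) ((fx_ev V0_n_ok.fx _).pow _) (Fx.one _)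
  · exact AgreeBits.eq (k := 15) (agree_of_eqB V0_n_ok (by norm_num) V0_n_r21_0) (by norm_num) ((fx_ev V0_n_ok.fx _).pow _) (Fx.one _)
  · exact AgreeBits.eq (k := 15) (agree_of_eqB V0_n_ok (by norm_num) V0_n_r22_0) (by norm_num) ((fx_ev V0_n_ok.fx _).pow _) (Fx.one _)
  · exact AgreeBits.eq (k := 15) (agree_of_eqB V0_n_ok (by norm_num) V0_n_r23_0) (by norm_num) ((fx_ev V0_n_ok.fx _).pow _) (Fx.one _)
  · exact AgreeBits.eq (k := 15) (agree_of_eqB V0_n_ok (by norm_num) V0_n_r24_0) (by norm_num) ((fx_ev V0_n_ok.fx _).pow _) (Fx.one _)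
  · exact AgreeBits.eq (k := 15) (agree_of_eqB V0_n_ok (by norm_num) V0_n_r25_0) (by norm_num) ((fx_ev V0_n_ok.fx _).pow _) (Fx.one _)
  · exact AgreeBits.eq (k := 15) (agree_of_eqB V0_n_ok (by norm_num) V0_n_r26_0) (by norm_num) ((fx_ev V0_n_ok.fx _).pow _) (Fx.one _)
  · exact AgreeBits.eq (k := 15) (agree_of_eqB V0_n_ok (by norm_num) V0_n_r27_0) (by norm_num) ((fx_ev V0_n_ok.fx _).pow _) (Fx.one _)
  · exact AgreeBits.eq (k := 15) (agree_of_eqB V0_n_ok (by norm_num) V0_n_r28_0) (by norm_num) ((fx_ev V0_n_ok.fx _).pow _) (Fx.one _)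
  · exact AgreeBits.eq (k := 15) (agree_of_eqB V0_n_ok (by norm_num) V0_n_r29_0) (by norm_num) ((fx_ev V0_n_ok.fx _).pow _) (Fx.one _)
  · exact AgreeBits.eq (k := 15) (agree_of_eqB V0_n_ok (by norm_num) V0_n_r30_0) (by norm_num) ((fx_ev V0_n_ok.fx _).pow _) (Fx.one _)
  · exact AgreeBits.eq (k := 15) (agree_of_eqB V0_n_ok (by norm_num) V0_n_r31_0) (by norm_num) ((fx_ev V0_n_ok.fx _).pow _) (Fx.one _)
  · exact AgreeBits.eq (k := 15) (agree_of_eqB V0_n_ok (by norm_num) V0_n_r32_0) (by norm_num) ((fx_ev V0_n_ok.fx _).pow _) (Fx.one _)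
  · exact AgreeBits.eq (k := 15) (agree_of_eqB V0_n_ok (by norm_num) V0_n_r33_0) (by norm_num) ((fx_ev V0_n_ok.fx _).pow _) (Fx.one _)
  · exact AgreeBits.eq (k := 15) (agree_of_eqB V0_n_ok (by norm_num) V0_n_r34_0) (by norm_num) ((fx_ev V0_n_ok.fx _).pow _) (Fx.one _)
  · exact AgreeBits.eq (k := 15) (agree_of_eqB V0_n_ok (by norm_num) V0_n_r35_0) (by norm_num) ((fx_ev V0_n_ok.fx _).pow _) (Fx.one _)
  · exact AgreeBits.eq (k := 15) (agree_of_eqB V0_n_ok (by norm_num) V0_n_r36_0) (by norm_num) ((fx_ev V0_n_ok.fx _).pow _) (Fx.one _)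
  · exact AgreeBits.eq (k := 15) (agree_of_eqB V0_n_ok (by norm_num) V0_n_r37_0) (by norm_num) ((fx_ev V0_n_ok.fx _).pow _) (Fx.one _)
  · exact AgreeBits.eq (k := 15) (agree_of_eqB V0_n_ok (by norm_num) V0_n_r38_0) (by norm_num) ((fx_ev V0_n_ok.fx _).pow _) (Fx.one _)
  · exact AgreeBits.eq (k := 15) (agree_of_eqB V0_n_ok (by norm_num) V0_n_r39_0) (by norm_num) ((fx_ev V0_n_ok.fx _).pow _) (Fx.one _)
  · exact AgreeBits.eq (k := 15) (agree_of_eqB V0_n_ok (by norm_num) V0_n_r40_0) (by norm_num) ((fx_ev V0_n_ok.fx _).pow _) (Fx.one _)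
  · exact AgreeBits.eq (k := 15) (agree_of_eqB V0_n_ok (by norm_num) V0_n_r41_0) (by norm_num) ((fx_ev V0_n_ok.fx _).pow _) (Fx.one _)
  · exact AgreeBits.eq (k := 15) (agree_of_eqB V0_n_ok (by norm_num) V0_n_r42_0) (by norm_num) ((fx_ev V0_n_ok.fx _).pow _) (Fx.one _)
  · exact AgreeBits.eq (k := 15) (agree_of_eqB V0_n_ok (by norm_num) V0_n_r43_0) (by norm_num) ((fx_ev V0_n_ok.fx _).pow _) (Fx.one _)
  · exact AgreeBits.eq (k := 15) (agree_of_eqB V0_n_ok (by norm_num) V0_n_r44_0) (by norm_num) ((fx_ev V0_n_ok.fx _).pow _) (Fx.one _)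
  · exact AgreeBits.eq (k := 15) (agree_of_eqB V0_n_ok (by norm_num) V0_n_r45_0) (by norm_num) ((fx_ev V0_n_ok.fx _).pow _) (Fx.one _)
  · exact AgreeBits.eq (k := 15) (agree_of_eqB V0_n_ok (by norm_num) V0_n_r46_0) (by norm_num) ((fx_ev V0_n_ok.fx _).pow _) (Fx.one _)
  · exact AgreeBits.eq (k := 15) (agree_of_eqB V0_n_ok (by norm_num) V0_n_r47_0) (by norm_num) ((fx_ev V0_n_ok.fx _).pow _) (Fx.one _)
  · exact AgreeBits.eq (k := 15) (agree_of_eqB V0_n_ok (by norm_num) V0_n_r48_0) (by norm_num) ((fx_ev V0_n_ok.fx _).pow _) (Fx.one _)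
  · exact AgreeBits.eq (k := 15) (agree_of_eqB V0_n_ok (by norm_num) V0_n_r49_0) (by norm_num) ((fx_ev V0_n_ok.fx _).pow _) (Fx.one _)
  · exact AgreeBits.eq (k := 15) (agree_of_eqB V0_n_ok (by norm_num) V0_n_r50_0) (by norm_num) ((fx_ev V0_n_ok.fx _).pow _) (Fx.one _)
  · exact AgreeBits.eq (k := 15) (agree_of_eqB V0_n_ok (by norm_num) V0_n_r51_0) (by norm_num) ((fx_ev V0_n_ok.fx _).pow _) (Fx.one _)
  · exact AgreeBits.eq (k := 15) (agree_of_eqB V0_n_ok (by norm_num) V0_n_r52_0) (by norm_num) ((fx_ev V0_n_ok.fx _).pow _) (Fx.one _)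
  · exact AgreeBits.eq (k := 15) (agree_of_eqB V0_n_ok (by norm_num) V0_n_r53_0) (by norm_num) ((fx_ev V0_n_ok.fx _).pow _) (Fx.one _)
  · exact AgreeBits.eq (k := 15) (agree_of_eqB V0_n_ok (by norm_num) V0_n_r54_0) (by norm_num) ((fx_ev V0_n_ok.fx _).pow _) (Fx.one _)
  · exact AgreeBits.eq (k := 15) (agree_of_eqB V0_n_ok (by norm_num) V0_n_r55_0) (by norm_num) ((fx_ev V0_n_ok.fx _).pow _) (Fx.one _)

end Cfsg.Lib.Comp.Fi24
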