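import Cfsg.Agent.Lib.Comp.Fi24.Base

set_option maxRecDepth 100000

namespace Cfsg.Lib.Comp.Fi24

universe u

noncomputable def V2_R : List (List ℕ × ℕ) := [([1],1),
 ([2],1),
 ([3],1),
 ([4],1),
 ([5],1),
 ([6],1),
 ([8],1),
 ([1,2],2),
 ([1,3],1),
 ([1,4],1),
 ([1,5],1),
 ([1,6],1),
 ([1,8],1),
 ([2,3],2),
 ([2,4],1),
 ([2,5],1),
 ([2,6],1),
 ([2,8],1),
 ([3,4],2),
 ([3,5],1),
 ([3,6],1),
 ([3,8],1),
 ([4,5],2),
 ([4,6],1),
 ([4,8],2),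
 ([5,6],2),
 ([5,8],1),
 ([6,8],1)]

noncomputable def V2_n_1 : Net :=
 (Net.cons 32 (nat_lit 0x40000000)
 (Net.cons 16 (nat_lit 0x400000008000)
 (Net.cons 8 (nat_lit 0xd000800000)
 (Net.cons 4 (nat_lit 0x804040c0000)
 (Net.cons 2 (nat_lit 0x20000)
 (Net.cons 1 (nat_lit 0x40040000410001)
 (Net.cons 2 (nat_lit 0x100332130000)
 (Net.cons 4 (nat_lit 0x8040e010000)
 (Net.cons 8 (nat_lit 0xd000800000)
 (Net.cons 16 (nat_lit 0x400000008000)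
 (Net.cons 32 (nat_lit 0x40000000)
 Net.nil)))))))))))

noncomputable def V2_n_2 : Net :=
 (Net.cons 16 (nat_lit 0x2000)
 (Net.cons 8 (nat_lit 0x4000b20000)
 (Net.cons 4 (nat_lit 0x40808020000)
 (Net.cons 2 (nat_lit 0x20020020202002)
 (Net.cons 1 (nat_lit 0x40040011111004)
 (Net.cons 2 (nat_lit 0x20122102202002)
 (Net.cons 4 (nat_lit 0x40803020000)
 (Net.cons 8 (nat_lit 0x4000b20000)
 (Net.cons 16 (nat_lit 0x2000)
 Net.nil)))))))))

noncomputable def V2_n_3 : Net :=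
 (Net.cons 32 (nat_lit 0x20000000)
 (Net.cons 16 (nat_lit 0x200000006800)
 (Net.cons 8 (nat_lit 0xc00000)
 (Net.cons 4 (nat_lit 0xa0206040400)
 (Net.cons 2 (nat_lit 0x20000)
 (Net.cons 1 (nat_lit 0x10010150040404)
 (Net.cons 2 (nat_lit 0x300002021000)
 (Net.cons 4 (nat_lit 0xa0206040400)
 (Net.cons 8 (nat_lit 0x2100c00000)
 (Net.cons 16 (nat_lit 0x200000006800)
 (Net.cons 32 (nat_lit 0x20000000)
 Net.nil)))))))))))

noncomputable def V2_n_4 : Net :=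
 (Net.cons 32 (nat_lit 0x40000000)
 (Net.cons 16 (nat_lit 0xc00000000000)
 (Net.cons 8 (nat_lit 0x4000400000)
 (Net.cons 4 (nat_lit 0x8080004000008)
 (Net.cons 2 (nat_lit 0x20002002200020)
 (Net.cons 1 (nat_lit 0x4010004504100010)
 (Net.cons 2 (nat_lit 0x20202302200320)
 (Net.cons 4 (nat_lit 0x8080604020008)
 (Net.cons 8 (nat_lit 0x4000400000)
 (Net.cons 16 (nat_lit 0xc00000000000)
 (Net.cons 32 (nat_lit 0x40000000)
 Net.nil)))))))))))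

noncomputable def V2_n_5 : Net :=
 (Net.cons 16 (nat_lit 0x800000002000)
 (Net.cons 8 (nat_lit 0x80002000200048)
 (Net.cons 4 (nat_lit 0xc000a00080408)
 (Net.cons 2 (nat_lit 0x20000000000)
 (Net.cons 1 (nat_lit 0x40015000400050)
 (Net.cons 2 (nat_lit 0x2020000000100)
 (Net.cons 4 (nat_lit 0xc020a000b0408)
 (Net.cons 8 (nat_lit 0x80002000200048)
 (Net.cons 16 (nat_lit 0x800000002000)
 Net.nil)))))))))

noncomputable def V2_n_6 : Net :=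
 (Net.cons 16 (nat_lit 0x8000)
 (Net.cons 8 (nat_lit 0x4800800000)
 (Net.cons 4 (nat_lit 0xa04000c0000)
 (Net.cons 2 (nat_lit 0x2000020000)
 (Net.cons 1 (nat_lit 0x101400411500)
 (Net.cons 2 (nat_lit 0x1022000020020)
 (Net.cons 4 (nat_lit 0xe04000c0000)
 (Net.cons 8 (nat_lit 0x4800800000)
 (Net.cons 16 (nat_lit 0x8000)
 Net.nil)))))))))

noncomputable def V2_n_8 : Net :=
 (Net.cons 32 (nat_lit 0x90000000)
 (Net.cons 16 (nat_lit 0x300000000000)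
 (Net.cons 8 (nat_lit 0xa0009000a200a0)
 (Net.cons 4 (nat_lit 0xa000802000200)
 (Net.cons 1 (nat_lit 0x5000401000100)
 (Net.cons 2 (nat_lit 0x20000000002010)
 (Net.cons 4 (nat_lit 0xa00090e020200)
 (Net.cons 8 (nat_lit 0xa0009000a200a0)
 (Net.cons 16 (nat_lit 0xb00400000000)
 (Net.cons 32 (nat_lit 0x90000000)
 Net.nil))))))))))

noncomputable def V2_n : List Net := [Net.nil,
 V2_n_1,
 V2_n_2,
 V2_n_3,
 V2_n_4,
 V2_n_5,
 V2_n_6,
 Net.nil,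
 V2_n_8]

theorem V2_n_ok : NetsOK 64 V2_n := netsOK_of (by decide +kernel)

theorem V2_n_rel : Rels (gp V2_n) V2_R := rels_of_relsB (k := 6) V2_n_ok (by norm_num) (by decide +kernel)

theorem V2_fin : finB 64 V2_n [1,2,3,4,5,6,8] 56 (runH 64 V2_n (fun x p => ptInv (nth Net.nil V2_n x) p) iv V2_R [] ([2,3,4,5,6,8].map fun x => [x]) 0 []
  (apd [1,5,9,13,17,21,0,4,8,12,16,20,24,28,32,36,40,44,48,52,56,60,64,68,72,76,80,84,88,92,96,100,104,108,36,40,48,56,60,68,72,84,88,92,96,100,104,32,36,40,48,52,56,60,68,72,76,80,84,88]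
 [92,96,104,108,28,32,36,40,48,52,56,60,64,68,72,76,80,84,88,92,96,100,104,108,28,32,36,40,44,48,56,60,64,72,76,80,88,92,96,36,52,56,76,80,84,32,36,60,64,68,28,40,44,48])
  (defsH 64 V2_n (ones 832) [1,2,3,4,5,6,8,4,5,3,4,8,2,3,4,5,6,1,2,3,4,5,8,4,3,2,1] (Nat.shiftLeft 1 0) 0)) = true := by decide +kernel

theorem V2_idx : Idx.{u} iv (V2_R ++ []) ([2,3,4,5,6,8].map fun x => [x]) [1,2,3,4,5,6,8] 56 :=
  Reach.idx V2_n_ok (reach_runH V2_n_ok (fun x p _ => ptInv_gp V2_n_ok x p) V2_n_rel (reach_defsH V2_n_ok _ _ _ _ _ _) _ _) V2_fin (by norm_num)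

end Cfsg.Lib.Comp.Fi24
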