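import Cfsg.Agent.Lib.Comp.Fi24.Volt0

set_option maxRecDepth 100000
set_option Elab.async false

namespace Cfsg.Lib.Comp.Fi24

universe u

theorem vr0 : Rels (vg nets cA cB L) [([1],1),
 ([2],1),
 ([3],1),
 ([4],1),
 ([5],1),
 ([6],1),
 ([7],1),
 ([8],1),
 ([9],1),
 ([10],1),
 ([11],1),
 ([12],1),
 ([1,2],2),
 ([1,3],1),
 ([1,4],1),
 ([1,5],1),
 ([1,6],1),
 ([1,7],1),
 ([1,8],1),
 ([1,9],1),
 ([1,10],1),
 ([1,11],2),
 ([1,12],1),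
 ([2,3],2),
 ([2,4],1),
 ([2,5],1),
 ([2,6],1),
 ([2,7],1),
 ([2,8],1)] :=
  rels_vg nets_ok c_dj (nets_rel.mono (by decide +kernel)) (by decide +kernel) (by decide +kernel)

end Cfsg.Lib.Comp.Fi24
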