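import Cfsg.Agent.Lib.Comp.Fi24.Volt1

set_option maxRecDepth 100000
set_option Elab.async false

namespace Cfsg.Lib.Comp.Fi24

universe u

theorem vr1 : Rels (vg nets cA cB L) [([2,9],1),
 ([2,10],1),
 ([2,11],1),
 ([2,12],1),
 ([3,4],2),
 ([3,5],1),
 ([3,6],1),
 ([3,7],1),
 ([3,8],1),
 ([3,9],1),
 ([3,10],1),
 ([3,11],1),
 ([3,12],1),
 ([4,5],2),
 ([4,6],1),
 ([4,7],1),
 ([4,8],2),
 ([4,9],1),
 ([4,10],1),
 ([4,11],1),
 ([4,12],1),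
 ([5,6],2),
 ([5,7],1)] :=
  rels_vg nets_ok c_dj (nets_rel.mono (by decide +kernel)) (by decide +kernel) (by decide +kernel)

end Cfsg.Lib.Comp.Fi24
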