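import Cfsg.Agent.Lib.Comp.Fi24.Volt2

set_option maxRecDepth 100000
set_option Elab.async false

namespace Cfsg.Lib.Comp.Fi24

universe u

theorem vr2 : Rels (vg nets cA cB L) [([5,8],1),
 ([5,9],1),
 ([5,10],1),
 ([5,11],1),
 ([5,12],1),
 ([6,7],2),
 ([6,8],1),
 ([6,9],1),
 ([6,10],1),
 ([6,11],1),
 ([6,12],1),
 ([7,8],1),
 ([7,9],1),
 ([7,10],2),
 ([7,11],1),
 ([7,12],1),
 ([8,9],2),
 ([8,10],1),
 ([8,11],1),
 ([8,12],1),
 ([9,10],1),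
 ([9,11],1),
 ([9,12],1)] :=
  rels_vg nets_ok c_dj (nets_rel.mono (by decide +kernel)) (by decide +kernel) (by decide +kernel)

end Cfsg.Lib.Comp.Fi24
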