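import Cfsg.Agent.Lib.Comp.Fi24.Volt3

set_option maxRecDepth 100000
set_option Elab.async false

namespace Cfsg.Lib.Comp.Fi24

universe u

theorem vr3 : Rels (vg nets cA cB L) [([10,11],1),
 ([10,12],1),
 ([11,12],2),
 ((apd [12,8,6,5,4,3,2,1,8,6,5,4,3,2,1,8,6,5,4,3,2,1,8,6,5,4,3,2,1,8,6,5,4,3,2,1,8,6,5,4,3,2,1,8,6,5,4,3,2,1,8,6,5,4,3,2,1,8,6,5]
 [4,3,2,1]),0)] :=
  rels_vg nets_ok c_dj (nets_rel.mono (by decide +kernel)) (by decide +kernel) (by decide +kernel)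

theorem v_rel : Rels (vg nets cA cB L) R.dropLast := (((vr0.append vr1).append vr2).append vr3).mono (by decide +kernel)

def zw : List ℕ := [4,3,2,1,11,12,4,5,6,7,10,4,8,9]

end Cfsg.Lib.Comp.Fi24
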