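import Cfsg.Agent.Lib.Comp.Fi24.Volt6

set_option maxRecDepth 100000
set_option Elab.async false

namespace Cfsg.Lib.Comp.Fi24

universe u

theorem vz2 : VI (ev (gp nets) zw ^ 5 * (ev (gp nets) zw ^ 6 * (ev (gp nets) zw ^ 6 * 1))) (ev (vg nets cA cB L) zw ^ 5 * (ev (vg nets cA cB L) zw ^ 6 * (ev (vg nets cA cB L) zw ^ 6 * 1))) 1 (ones 306936) 0 :=
  vz1.pow nets_ok c_dj (by decide) (by decide) (by decide +kernel)

end Cfsg.Lib.Comp.Fi24
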